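import Mathlib

/-!
S1237, Step 5 (author: helper5): the abstract characterisation `H64 G ξ` of the Sylow 2-subgroup of
`U₃(4)` (order 64, centre of order 4, only central elements square to one, an automorphism of
3-power order without fixed points on the centre).  This file: elementary consequences, the
counting formula `card_inv` and `ξ ^ 3 = 1`.
-/

set_option autoImplicit false

namespace Cfsg.Agent.Lib.Helper5.R2

/-- the hypotheses characterising the group of order 64 -/
structure H64 (G : Type*) [Group G] (ξ : MulAut G) : Prop where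
  card : Nat.card G = 64
  card_center : Nat.card (Subgroup.center G) = 4
  sq_mem : ∀ x : G, x * x ∈ Subgroup.center G
  comm_mem : ∀ x y : G, x⁻¹ * y⁻¹ * x * y ∈ Subgroup.center G
  sq_eq_one : ∀ x : G, x * x = 1 → x ∈ Subgroup.center G
  fpf : ∀ z ∈ Subgroup.center G, ξ z = z → z = 1
  three : ∃ k : ℕ, ξ ^ (3 ^ k) = 1

/-- the commutator `x⁻¹ y⁻¹ x y`, so that `x y = y x κ(x,y)` -/
def kap {G : Type*} [Group G] (x y : G) : G := x⁻¹ * y⁻¹ * x * y

section basic

variable {G : Type*} [Group G]

theorem xi_center (ξ : MulAut G) {z : G} (hz : z ∈ Subgroup.center G) :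
    ξ z ∈ Subgroup.center G := by
  rw [Subgroup.mem_center_iff] at hz ⊢
  intro g
  have := congrArg ξ (hz (ξ.symm g))
  rw [map_mul, map_mul, MulEquiv.apply_symm_apply] at this
  exact this

/-- four distinct elements exhaust a subgroup of order 4 -/
theorem eq_of_card_four' (V : Subgroup G) (hV : Nat.card V = 4) (a b c d : G)
    (ha : a ∈ V) (hb : b ∈ V) (hc : c ∈ V) (hd : d ∈ V)
    (hab : a ≠ b) (hac : a ≠ c) (had : a ≠ d) (hbc : b ≠ c) (hbd : b ≠ d) (hcd : c ≠ d)
    (v : G) (hv : v ∈ V) : v = a ∨ v = b ∨ v = c ∨ v = d := by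
  classical
  haveI : Finite V := Nat.finite_of_card_ne_zero (by rw [hV]; norm_num)
  by_contra hcon
  push Not at hcon
  obtain ⟨hva, hvb, hvc, hvd⟩ := hcon
  have hsub : (({v, a, b, c, d} : Finset G) : Set G) ⊆ (V : Set G) := by
    intro w hw
    simp only [Finset.coe_insert, Finset.coe_singleton, Set.mem_insert_iff,
      Set.mem_singleton_iff] at hw
    rcases hw with rfl | rfl | rfl | rfl | rfl
    exacts [hv, ha, hb, hc, hd]
  have hcard : ({v, a, b, c, d} : Finset G).card = 5 := by
    rw [Finset.card_insert_of_notMem, Finset.card_insert_of_notMem,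
      Finset.card_insert_of_notMem, Finset.card_insert_of_notMem, Finset.card_singleton]
    · simpa using hcd
    · simp [hbc, hbd]
    · simp [hab, hac, had]
    · simp [hva, hvb, hvc, hvd]
  have h1 := Set.ncard_le_ncard hsub (Set.toFinite _)
  have h2 : Nat.card V = (V : Set G).ncard := Nat.card_coe_set_eq _
  rw [Set.ncard_coe_finset, hcard, ← h2, hV] at h1
  omega

theorem mul_eq_kap (x y : G) : x * y = y * x * kap x y := by unfold kap; group

theorem kap_self (x : G) : kap x x = 1 := by unfold kap; group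

theorem kap_one_right (x : G) : kap x 1 = 1 := by unfold kap; group

theorem kap_inv_self (x : G) : kap x x⁻¹ = 1 := by unfold kap; group

theorem kap_inv_symm (x y : G) : kap y x = (kap x y)⁻¹ := by unfold kap; group

theorem kap_xi (ξ : MulAut G) (x y : G) : kap (ξ x) (ξ y) = ξ (kap x y) := by
  unfold kap; simp only [map_mul, map_inv]

theorem kap_center_right (x : G) {z : G} (hz : z ∈ Subgroup.center G) : kap x z = 1 := by
  calc kap x z = x⁻¹ * z⁻¹ * (x * z) := by unfold kap; group
    _ = x⁻¹ * z⁻¹ * (z * x) := by rw [Subgroup.mem_center_iff.1 hz x]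
    _ = 1 := by group

theorem kap_center_left (x : G) {z : G} (hz : z ∈ Subgroup.center G) : kap z x = 1 := by
  rw [kap_inv_symm, kap_center_right x hz, inv_one]

end basic

namespace H64

variable {G : Type*} [Group G] {ξ : MulAut G} (h : H64 G ξ)
include h

theorem finite : Finite G := Nat.finite_of_card_ne_zero (by rw [h.card]; norm_num)

/-- the centre has exponent 2 -/
theorem center_sq {z : G} (hz : z ∈ Subgroup.center G) : z * z = 1 := by
  haveI := h.finite
  by_contra hne
  have hw : z * z ∈ Subgroup.center G := h.sq_mem z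
  apply hne
  apply h.fpf _ hw
  have hz1 : z ≠ 1 := by rintro rfl; exact hne (one_mul 1)
  have h4 : z * z * (z * z) = 1 := by
    have h0 : (⟨z, hz⟩ : Subgroup.center G) ^ Nat.card (Subgroup.center G) = 1 := pow_card_eq_one'
    rw [h.card_center] at h0
    have h1 := congrArg Subtype.val h0
    simp only [Subgroup.coe_pow, Subgroup.coe_one] at h1
    rw [← h1]
    simp only [pow_succ, pow_zero, one_mul, mul_assoc]
  have hz3 : z * z * z ≠ 1 := by
    intro e
    apply hz1
    have : z * z * (z * z) = z := by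
      calc z * z * (z * z) = z * z * z * z := by simp only [mul_assoc]
        _ = z := by rw [e, one_mul]
    rw [← this, h4]
  have hz3c : z * z * z ∈ Subgroup.center G := Subgroup.mul_mem _ hw hz
  have hcases := eq_of_card_four' (Subgroup.center G) h.card_center 1 z (z * z) (z * z * z)
    (Subgroup.one_mem _) hz hw hz3c (Ne.symm hz1) (Ne.symm hne) (Ne.symm hz3)
    (by intro e; apply hz1; have := congrArg (fun t => z⁻¹ * t) e; simpa using this.symm)
    (by intro e; apply hne; have := congrArg (fun t => z⁻¹ * t) e; simpa [mul_assoc] using this.symm)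
    (by intro e; apply hz1; have := congrArg (fun t => (z * z)⁻¹ * t) e
        simpa [mul_assoc] using this.symm)
    (ξ z) (xi_center ξ hz)
  rcases hcases with e | e | e | e
  · exact absurd ((map_eq_one_iff ξ ξ.injective).1 e) hz1
  · exact absurd (h.fpf z hz e) hz1
  · exfalso
    apply hne
    apply (map_eq_one_iff ξ ξ.injective).1
    rw [map_mul, e, h4]
  · rw [map_mul, e]
    calc z * z * z * (z * z * z) = z * z * (z * z * (z * z)) := by simp only [mul_assoc]
      _ = z * z := by rw [h4, mul_one]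

theorem center_inv {z : G} (hz : z ∈ Subgroup.center G) : z⁻¹ = z :=
  inv_eq_of_mul_eq_one_left (h.center_sq hz)

/-- `ξ` has no fixed points at all -/
theorem fix_eq_one {x : G} (hx : ξ x = x) : x = 1 := by
  haveI := h.finite
  by_contra hne
  have hp : IsPGroup 2 G := IsPGroup.of_card (n := 6) (by rw [h.card]; norm_num)
  obtain ⟨k, hk⟩ := hp x
  obtain ⟨m, -, hm⟩ := (Nat.dvd_prime_pow Nat.prime_two).1 (orderOf_dvd_of_pow_eq_one hk)
  have hm0 : m ≠ 0 := by
    rintro rfl
    rw [pow_zero, orderOf_eq_one_iff] at hm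
    exact hne hm
  obtain ⟨m', rfl⟩ : ∃ m', m = m' + 1 := ⟨m - 1, by omega⟩
  have ht2 : x ^ 2 ^ m' * x ^ 2 ^ m' = 1 := by
    rw [← pow_add, ← two_mul, ← pow_succ', ← hm, pow_orderOf_eq_one]
  have ht1 : x ^ 2 ^ m' ≠ 1 := by
    intro e
    have := orderOf_dvd_of_pow_eq_one e
    rw [hm] at this
    have := Nat.le_of_dvd (by positivity) this
    rw [pow_succ] at this
    have : 0 < 2 ^ m' := by positivity
    omega
  have htfix : ξ (x ^ 2 ^ m') = x ^ 2 ^ m' := by rw [map_pow, hx]
  exact ht1 (h.fpf _ (h.sq_eq_one _ ht2) htfix)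

/-- if `ξ y ∈ y Z` then `y ∈ Z` -/
theorem mem_center_of_coset {y : G} (hy : y⁻¹ * ξ y ∈ Subgroup.center G) :
    y ∈ Subgroup.center G := by
  haveI := h.finite
  let f : Subgroup.center G →* Subgroup.center G :=
    { toFun := fun d => ⟨d.1 * ξ d.1, Subgroup.mul_mem _ d.2 (xi_center ξ d.2)⟩
      map_one' := Subtype.ext (by simp)
      map_mul' := fun a b => Subtype.ext (by
        show a.1 * b.1 * ξ (a.1 * b.1) = a.1 * ξ a.1 * (b.1 * ξ b.1)
        rw [map_mul]
        have := Subgroup.mem_center_iff.1 b.2 (ξ a.1)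
        calc a.1 * b.1 * (ξ a.1 * ξ b.1) = a.1 * (b.1 * ξ a.1) * ξ b.1 := by group
          _ = a.1 * (ξ a.1 * b.1) * ξ b.1 := by rw [this]
          _ = _ := by group) }
  have hinj : Function.Injective f := by
    rw [injective_iff_map_eq_one]
    intro d hd
    have h1 : d.1 * ξ d.1 = 1 := congrArg Subtype.val hd
    have h2 : ξ d.1 = d.1 := by
      have := h.center_sq d.2
      exact mul_left_cancel (h1.trans this.symm)
    exact Subtype.ext (h.fpf _ d.2 h2)
  have hsurj := Finite.injective_iff_surjective.1 hinj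
  obtain ⟨d, hd⟩ := hsurj ⟨y⁻¹ * ξ y, hy⟩
  have hd' : d.1 * ξ d.1 = y⁻¹ * ξ y := congrArg Subtype.val hd
  have e1 : ξ y = y * (d.1 * ξ d.1) := by rw [hd']; group
  have hfix : ξ (y * d.1) = y * d.1 := by
    rw [map_mul, e1, mul_assoc, mul_assoc, h.center_sq (xi_center ξ d.2), mul_one]
  have h1 := h.fix_eq_one hfix
  have : y = d.1⁻¹ := eq_inv_of_mul_eq_one_left h1
  rw [this]
  exact Subgroup.inv_mem _ d.2

theorem xi_ne_self {z : G} (hz : z ∈ Subgroup.center G) (hz1 : z ≠ 1) : ξ z ≠ z :=
  fun e => hz1 (h.fpf z hz e)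

theorem xi_xi_ne_self {z : G} (hz : z ∈ Subgroup.center G) (hz1 : z ≠ 1) : ξ (ξ z) ≠ z := by
  intro e
  have hfix : ξ (z * ξ z) = z * ξ z := by
    rw [map_mul, e]
    exact Subgroup.mem_center_iff.1 hz (ξ z)
  have h1 := h.fpf _ (Subgroup.mul_mem _ hz (xi_center ξ hz)) hfix
  have h2 : ξ z = z := mul_left_cancel (h1.trans (h.center_sq hz).symm)
  exact h.xi_ne_self hz hz1 h2

theorem center_cases {z : G} (hz : z ∈ Subgroup.center G) (hz1 : z ≠ 1) {v : G}
    (hv : v ∈ Subgroup.center G) : v = 1 ∨ v = z ∨ v = ξ z ∨ v = ξ (ξ z) := by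
  haveI := h.finite
  have hξ1 : ξ z ≠ 1 := fun e => hz1 ((map_eq_one_iff ξ ξ.injective).1 e)
  have hξξ1 : ξ (ξ z) ≠ 1 := fun e => hξ1 ((map_eq_one_iff ξ ξ.injective).1 e)
  exact eq_of_card_four' (Subgroup.center G) h.card_center 1 z (ξ z) (ξ (ξ z))
    (Subgroup.one_mem _) hz (xi_center ξ hz) (xi_center ξ (xi_center ξ hz))
    (Ne.symm hz1) (Ne.symm hξ1) (Ne.symm hξξ1)
    (Ne.symm (h.xi_ne_self hz hz1)) (Ne.symm (h.xi_xi_ne_self hz hz1))
    (fun e => h.xi_ne_self hz hz1 (ξ.injective e.symm)) v hv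

theorem xi3_center {z : G} (hz : z ∈ Subgroup.center G) : ξ (ξ (ξ z)) = z := by
  by_cases hz1 : z = 1
  · rw [hz1, map_one, map_one, map_one]
  rcases h.center_cases hz hz1 (xi_center ξ (xi_center ξ (xi_center ξ hz))) with e | e | e | e
  · exfalso
    apply hz1
    apply (map_eq_one_iff ξ ξ.injective).1
    apply (map_eq_one_iff ξ ξ.injective).1
    exact (map_eq_one_iff ξ ξ.injective).1 e
  · exact e
  · exact absurd (ξ.injective e) (h.xi_xi_ne_self hz hz1)
  · exact absurd (ξ.injective (ξ.injective e)) (h.xi_ne_self hz hz1)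

theorem mul_xi_center {z : G} (hz : z ∈ Subgroup.center G) : z * ξ z = ξ (ξ z) := by
  by_cases hz1 : z = 1
  · rw [hz1, map_one, map_one, mul_one]
  rcases h.center_cases hz hz1 (Subgroup.mul_mem _ hz (xi_center ξ hz)) with e | e | e | e
  · exfalso
    have h2 : ξ z = z := mul_left_cancel (e.trans (h.center_sq hz).symm)
    exact h.xi_ne_self hz hz1 h2
  · exfalso
    apply hz1
    apply (map_eq_one_iff ξ ξ.injective).1
    have := congrArg (fun t => z⁻¹ * t) e
    simpa using this
  · exfalso
    apply hz1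
    have := congrArg (fun t => t * (ξ z)⁻¹) e
    simpa using this
  · exact e

/-! ### the commutator pairing -/

theorem kap_mem (x y : G) : kap x y ∈ Subgroup.center G := h.comm_mem x y

theorem kap_sq (x y : G) : kap x y * kap x y = 1 := h.center_sq (h.kap_mem x y)

theorem kap_symm (x y : G) : kap y x = kap x y := by
  rw [kap_inv_symm]
  exact h.center_inv (h.kap_mem x y)

theorem kap_mul_left (x x' y : G) : kap (x * x') y = kap x y * kap x' y := by
  have hc : x'⁻¹ * kap x y = kap x y * x'⁻¹ := Subgroup.mem_center_iff.1 (h.kap_mem x y) x'⁻¹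
  calc kap (x * x') y = x'⁻¹ * kap x y * (y⁻¹ * x' * y) := by unfold kap; group
    _ = kap x y * x'⁻¹ * (y⁻¹ * x' * y) := by rw [hc]
    _ = kap x y * kap x' y := by unfold kap; group

theorem kap_mul_right (x y y' : G) : kap x (y * y') = kap x y * kap x y' := by
  have hc : y' * kap x y = kap x y * y' := Subgroup.mem_center_iff.1 (h.kap_mem x y) y'
  calc kap x (y * y') = (x⁻¹ * y'⁻¹ * x) * (kap x y * y') := by unfold kap; group
    _ = (x⁻¹ * y'⁻¹ * x) * (y' * kap x y) := by rw [hc]
    _ = kap x y' * kap x y := by unfold kap; group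
    _ = kap x y * kap x y' := Subgroup.mem_center_iff.1 (h.kap_mem x y) _

theorem kap_inv_right (x y : G) : kap x y⁻¹ = kap x y := by
  have h1 : kap x y * kap x y⁻¹ = 1 := by
    rw [← h.kap_mul_right, mul_inv_cancel, kap_one_right]
  have h2 : kap x y⁻¹ = (kap x y)⁻¹ := eq_inv_of_mul_eq_one_right h1
  rw [h2]
  exact h.center_inv (h.kap_mem x y)

/-- `(x y)² = x² y² κ(y,x)` -/
theorem sq_mul (x y : G) : x * y * (x * y) = x * x * (y * y) * kap y x := by
  have hc : y * kap y x = kap y x * y := Subgroup.mem_center_iff.1 (h.kap_mem y x) y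
  calc x * y * (x * y) = x * (y * x) * y := by group
    _ = x * (x * y * kap y x) * y := by rw [← mul_eq_kap y x]
    _ = x * x * y * (kap y x * y) := by group
    _ = x * x * y * (y * kap y x) := by rw [hc]
    _ = x * x * (y * y) * kap y x := by group

end H64

end Cfsg.Agent.Lib.Helper5.R2
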