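import Mathlib
import Cfsg.Agent.Lib.Helper5.R2.H64A

/-!
S1237, Step 5 (author: helper5): the counting formula for `ξ`-invariant subgroups, `ξ ^ 3 = 1`,
the norm `x ξ(x) ξ²(x)` is central, `x` commutes with `ξ x`, and the cross relations.
-/

set_option autoImplicit false

namespace Cfsg.Agent.Lib.Helper5.R2

namespace H64

variable {G : Type*} [Group G] {ξ : MulAut G} (h : H64 G ξ)
include h

/-- the counting formula: an invariant subgroup containing the centre has `4 + 3 m` elements, `m`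
the number of its elements squaring to a fixed `z₀` -/
theorem card_inv (C : Subgroup G) (hZC : Subgroup.center G ≤ C) (hξC : ∀ x ∈ C, ξ x ∈ C)
    {z₀ : G} (hz₀ : z₀ ∈ Subgroup.center G) (hz₀1 : z₀ ≠ 1) :
    Nat.card C = 4 + 3 * Nat.card {x : G // x ∈ C ∧ x * x = z₀} := by
  classical
  haveI := h.finite
  haveI : Fintype G := Fintype.ofFinite G
  let S : G → Finset G := fun w => Finset.univ.filter (fun x => x ∈ C ∧ x * x = w)
  have hS : ∀ w, Nat.card {x : G // x ∈ C ∧ x * x = w} = (S w).card := fun w =>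
    Nat.subtype_card (S w) (by intro x; simp [S])
  have hCc : Nat.card C = (Finset.univ.filter (fun x => x ∈ C)).card :=
    Nat.subtype_card _ (by intro x; simp)
  have hξ1 : ξ z₀ ≠ 1 := fun e => hz₀1 ((map_eq_one_iff ξ ξ.injective).1 e)
  have hξξ1 : ξ (ξ z₀) ≠ 1 := fun e => hξ1 ((map_eq_one_iff ξ ξ.injective).1 e)
  have hmaps : ((Finset.univ.filter (fun x => x ∈ C) : Finset G) : Set G).MapsTo
      (fun x => x * x) (({1, z₀, ξ z₀, ξ (ξ z₀)} : Finset G) : Set G) := by
    intro x _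
    have := h.center_cases hz₀ hz₀1 (h.sq_mem x)
    simp only [Finset.coe_insert, Finset.coe_singleton, Set.mem_insert_iff,
      Set.mem_singleton_iff]
    exact this
  have hfib : ∀ w, ((Finset.univ.filter (fun x => x ∈ C)).filter (fun a => a * a = w)) = S w := by
    intro w
    rw [Finset.filter_filter]
  rw [hCc, Finset.card_eq_sum_card_fiberwise hmaps, Finset.sum_insert, Finset.sum_insert,
    Finset.sum_insert, Finset.sum_singleton, hfib, hfib, hfib, hfib, hS]
  · have h1 : (S 1).card = 4 := by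
      have : S 1 = Finset.univ.filter (fun x => x ∈ Subgroup.center G) := by
        ext x
        simp only [S, Finset.mem_filter, Finset.mem_univ, true_and]
        exact ⟨fun hx => h.sq_eq_one x hx.2, fun hx => ⟨hZC hx, h.center_sq hx⟩⟩
      rw [this, ← h.card_center]
      exact (Nat.subtype_card _ (by intro x; simp)).symm
    have hle : ∀ w, (S w).card ≤ (S (ξ w)).card := by
      intro w
      apply Finset.card_le_card_of_injOn (fun x => ξ x)
      · intro x hx
        simp only [S, Finset.coe_filter, Finset.mem_univ, true_and, Set.mem_setOf_eq] at hx ⊢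
        exact ⟨hξC x hx.1, by rw [← map_mul, hx.2]⟩
      · intro x _ y _ hxy
        exact ξ.injective hxy
    have e1 := hle z₀
    have e2 := hle (ξ z₀)
    have e3 := hle (ξ (ξ z₀))
    rw [h.xi3_center hz₀] at e3
    omega
  · simp only [Finset.mem_singleton]
    exact fun e => h.xi_ne_self hz₀ hz₀1 (ξ.injective e.symm)
  · simp only [Finset.mem_insert, Finset.mem_singleton, not_or]
    exact ⟨Ne.symm (h.xi_ne_self hz₀ hz₀1), Ne.symm (h.xi_xi_ne_self hz₀ hz₀1)⟩
  · simp only [Finset.mem_insert, Finset.mem_singleton, not_or]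
    exact ⟨Ne.symm hz₀1, Ne.symm hξ1, Ne.symm hξξ1⟩

theorem exists_center_ne_one : ∃ z ∈ Subgroup.center G, z ≠ 1 := by
  by_contra hcon
  push Not at hcon
  have h1 : Subgroup.center G = ⊥ := (Subgroup.eq_bot_iff_forall _).2 hcon
  have h2 := h.card_center
  rw [h1, Subgroup.card_bot] at h2
  omega

/-- twenty elements square to a given non-identity central element -/
theorem card_sq_fibre {z₀ : G} (hz₀ : z₀ ∈ Subgroup.center G) (hz₀1 : z₀ ≠ 1) :
    Nat.card {x : G // x * x = z₀} = 20 := by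
  have h1 := h.card_inv ⊤ le_top (fun _ _ => Subgroup.mem_top _) hz₀ hz₀1
  rw [Subgroup.card_top, h.card] at h1
  have h2 : Nat.card {x : G // x ∈ (⊤ : Subgroup G) ∧ x * x = z₀} = Nat.card {x : G // x * x = z₀} :=
    Nat.card_congr (Equiv.subtypeEquivRight (by intro x; simp))
  omega

/-- `ξ` has order 3 -/
theorem xi_cube (x : G) : ξ (ξ (ξ x)) = x := by
  classical
  haveI := h.finite
  haveI : Fintype G := Fintype.ofFinite G
  obtain ⟨k, hk⟩ := h.three
  obtain ⟨z₀, hz₀, hz₀1⟩ := h.exists_center_ne_one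
  rcases Nat.eq_zero_or_pos k with rfl | hkpos
  · exfalso
    rw [pow_zero, pow_one] at hk
    apply hz₀1
    apply h.fpf z₀ hz₀
    rw [hk]
    rfl
  obtain ⟨k', rfl⟩ : ∃ k', k = k' + 1 := ⟨k - 1, by omega⟩
  set η : MulAut G := ξ ^ 3 with hη
  have hηk : η ^ (3 ^ k') = 1 := by rw [hη, ← pow_mul, ← pow_succ', hk]
  have hη_apply : ∀ y, η y = ξ (ξ (ξ y)) := fun y => by
    rw [hη]
    simp [pow_succ, MulAut.mul_apply]
  have hηZ : ∀ z ∈ Subgroup.center G, η z = z := fun z hz => by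
    rw [hη_apply]; exact h.xi3_center hz
  let C : Subgroup G := MonoidHom.eqLocus (η.toMonoidHom) (MonoidHom.id G)
  have hCmem : ∀ y, y ∈ C ↔ η y = y := fun y => Iff.rfl
  have hZC : Subgroup.center G ≤ C := fun z hz => (hCmem z).2 (hηZ z hz)
  have hξC : ∀ y ∈ C, ξ y ∈ C := by
    intro y hy
    rw [hCmem, hη_apply] at hy ⊢
    rw [hy]
  have hcardC := h.card_inv C hZC hξC hz₀ hz₀1
  have hp : ∀ y, (fun y => y * y = z₀) (MulAut.toPerm G η y) ↔ (fun y => y * y = z₀) y := by
    intro y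
    show η y * η y = z₀ ↔ y * y = z₀
    rw [← map_mul]
    constructor
    · intro e
      apply η.injective
      rw [e, hηZ z₀ hz₀]
    · intro e
      rw [e, hηZ z₀ hz₀]
  let σ : Equiv.Perm {y : G // y * y = z₀} := (MulAut.toPerm G η).subtypePerm hp
  have hσ : σ ^ 3 ^ k' = 1 := by
    show ((MulAut.toPerm G η).subtypePerm hp) ^ 3 ^ k' = 1
    rw [Equiv.Perm.subtypePerm_pow]
    ext y
    simp only [Equiv.Perm.subtypePerm_apply, Equiv.Perm.coe_one, id_eq]
    rw [← map_pow, hηk, map_one]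
    rfl
  haveI : Fact (Nat.Prime 3) := ⟨by norm_num⟩
  have hmod := Equiv.Perm.card_compl_support_modEq hσ
  have hcard20 : Fintype.card {y : G // y * y = z₀} = 20 := by
    rw [← Nat.card_eq_fintype_card]
    exact h.card_sq_fibre hz₀ hz₀1
  have hfixcard : σ.supportᶜ.card = Nat.card {x : G // x ∈ C ∧ x * x = z₀} := by
    rw [← Nat.subtype_card (p := fun y : {y : G // y * y = z₀} => σ y = y) σ.supportᶜ
      (by intro y; simp [Equiv.Perm.mem_support])]
    exact Nat.card_congr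
      { toFun := fun y => ⟨y.1.1, (hCmem _).2 (congrArg Subtype.val y.2), y.1.2⟩
        invFun := fun x => ⟨⟨x.1, x.2.2⟩, Subtype.ext ((hCmem _).1 x.2.1)⟩
        left_inv := fun y => rfl
        right_inv := fun x => rfl }
  rw [hfixcard, hcard20] at hmod
  have hdvd : Nat.card C ∣ 64 := by
    rw [← h.card]
    exact Subgroup.card_subgroup_dvd_card C
  have h64 : (64 : ℕ) = 2 ^ 6 := by norm_num
  rw [h64] at hdvd
  obtain ⟨j, hj6, hj⟩ := (Nat.dvd_prime_pow Nat.prime_two).1 hdvd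
  have hmod' : Nat.card {x : G // x ∈ C ∧ x * x = z₀} % 3 = 20 % 3 := hmod
  have hC64 : Nat.card C = 64 := by
    rw [hj] at hcardC ⊢
    interval_cases j <;> omega
  have hCtop : C = ⊤ := Subgroup.eq_top_of_card_eq C (by rw [hC64, h.card])
  have hx : x ∈ C := by rw [hCtop]; exact Subgroup.mem_top x
  rw [← hη_apply]
  exact (hCmem x).1 hx

/-- the norm of `x` is central -/
theorem norm_mem (x : G) : x * ξ x * ξ (ξ x) ∈ Subgroup.center G := by
  apply h.mem_center_of_coset
  have e : (x * ξ x * ξ (ξ x))⁻¹ * ξ (x * ξ x * ξ (ξ x)) = kap (x * ξ x * ξ (ξ x)) x := by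
    rw [map_mul, map_mul, h.xi_cube]
    unfold kap
    group
  rw [e]
  exact h.kap_mem _ _

/-- `x` commutes with `ξ x` -/
theorem kap_xi_self (x : G) : kap x (ξ x) = 1 := by
  apply h.fpf _ (h.kap_mem _ _)
  have hN := h.norm_mem x
  have e : ξ (ξ x) = (ξ x)⁻¹ * x⁻¹ * (x * ξ x * ξ (ξ x)) := by group
  calc ξ (kap x (ξ x)) = kap (ξ x) (ξ (ξ x)) := (kap_xi ξ _ _).symm
    _ = kap (ξ x) ((ξ x)⁻¹ * x⁻¹ * (x * ξ x * ξ (ξ x))) := by rw [← e]
    _ = kap (ξ x) (ξ x)⁻¹ * kap (ξ x) x⁻¹ * kap (ξ x) (x * ξ x * ξ (ξ x)) := by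
        rw [h.kap_mul_right, h.kap_mul_right]
    _ = kap x (ξ x) := by
        rw [kap_inv_self, kap_center_right _ hN, h.kap_inv_right, one_mul, mul_one, h.kap_symm]

theorem comm_xi (x : G) : x * ξ x = ξ x * x := by
  rw [mul_eq_kap x (ξ x), h.kap_xi_self, mul_one]

/-- the cross relation `κ(u, ξ v) = κ(ξ u, v)` -/
theorem kap_cross (u v : G) : kap u (ξ v) = kap (ξ u) v := by
  have h1 := h.kap_xi_self (u * v)
  rw [map_mul, h.kap_mul_left, h.kap_mul_right, h.kap_mul_right, h.kap_xi_self, h.kap_xi_self,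
    one_mul, mul_one, h.kap_symm (ξ u) v] at h1
  -- h1 : kap u (ξ v) * kap (ξ u) v = 1
  have h2 : kap u (ξ v) = (kap (ξ u) v)⁻¹ := eq_inv_of_mul_eq_one_left h1
  rw [h2]
  exact h.center_inv (h.kap_mem _ _)

/-- the cross relation `κ(u, ξ v) = ξ² κ(u, v)` -/
theorem kap_cross' (u v : G) : kap u (ξ v) = ξ (ξ (kap u v)) := by
  have hN := h.norm_mem u
  have h1 : kap (u * ξ u * ξ (ξ u)) v = 1 := kap_center_left v hN
  rw [h.kap_mul_left, h.kap_mul_left] at h1
  have h2 : kap (ξ (ξ u)) v = ξ (ξ (kap u (ξ v))) := by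
    rw [← kap_xi, ← kap_xi, h.xi_cube]
  rw [h2, ← h.kap_cross] at h1
  -- h1 : kap u v * A * ξ (ξ A) = 1
  have hA := h.kap_mem u (ξ v)
  have h3 : ξ (ξ (kap u (ξ v))) * kap u (ξ v) = ξ (kap u (ξ v)) := by
    have := h.mul_xi_center (xi_center ξ (xi_center ξ hA))
    rw [h.xi3_center hA] at this
    exact this
  have h4 : kap u (ξ v) * ξ (ξ (kap u (ξ v))) = ξ (kap u (ξ v)) :=
    (Subgroup.mem_center_iff.1 (xi_center ξ (xi_center ξ hA)) (kap u (ξ v))).trans h3
  rw [mul_assoc, h4] at h1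
  -- h1 : kap u v * ξ A = 1
  have h5 : ξ (kap u (ξ v)) = kap u v := by
    have : ξ (kap u (ξ v)) = (kap u v)⁻¹ := eq_inv_of_mul_eq_one_right h1
    rw [this]
    exact h.center_inv (h.kap_mem _ _)
  rw [← h5, h.xi3_center hA]

end H64

end Cfsg.Agent.Lib.Helper5.R2
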