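import Mathlib
import Cfsg.Agent.Lib.Helper5.R2.H64B

/-!
S1237, Step 5 (author: helper5): a group with `H64` has generators `u, u', v, v'` in the normal
form `NF`.
-/

set_option autoImplicit false

namespace Cfsg.Agent.Lib.Helper5.R2

/-- the normal form of the group of order 64: generators and relations -/
structure NF (G : Type*) [Group G] (u u' v v' z₀ z₁ : G) : Prop where
  card : Nat.card G = 64
  z₀_mem : z₀ ∈ Subgroup.center G
  z₁_mem : z₁ ∈ Subgroup.center G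
  z₀_sq : z₀ * z₀ = 1
  z₁_sq : z₁ * z₁ = 1
  u_sq : u * u = z₀
  v_sq : v * v = z₀
  u'_sq : u' * u' = z₁
  v'_sq : v' * v' = z₁
  uu' : u * u' = u' * u
  vv' : v * v' = v' * v
  uv : u * v = v * u * z₁
  u'v' : u' * v' = v' * u' * (z₀ * z₁)
  uv' : u * v' = v' * u * z₀
  u'v : u' * v = v * u' * z₀
  gen : Subgroup.closure {u, u', v, v'} = ⊤

namespace H64

variable {G : Type*} [Group G] {ξ : MulAut G} (h : H64 G ξ)
include h

theorem gen_of_not_mem {u v z₀ : G} (hz₀ : z₀ ∈ Subgroup.center G) (hz₀1 : z₀ ≠ 1)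
    (hu : u * u = z₀) (hv : v * v = z₀) (huv : u⁻¹ * v ∉ Subgroup.center G) :
    Subgroup.closure {u, ξ u, v, ξ v} = ⊤ := by
  haveI := h.finite
  set G₀ : Subgroup G := Subgroup.closure {u, ξ u, v, ξ v} with hG₀
  have hu0 : u ∈ G₀ := Subgroup.subset_closure (by simp)
  have hu1 : ξ u ∈ G₀ := Subgroup.subset_closure (by simp)
  have hv0 : v ∈ G₀ := Subgroup.subset_closure (by simp)
  have hv1 : ξ v ∈ G₀ := Subgroup.subset_closure (by simp)
  have hz0 : z₀ ∈ G₀ := hu ▸ G₀.mul_mem hu0 hu0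
  have hz1 : ξ z₀ ∈ G₀ := by
    rw [← hu, map_mul]
    exact G₀.mul_mem hu1 hu1
  have hz2 : ξ (ξ z₀) ∈ G₀ := by
    rw [← h.mul_xi_center hz₀]
    exact G₀.mul_mem hz0 hz1
  have hZ : Subgroup.center G ≤ G₀ := by
    intro z hz
    rcases h.center_cases hz₀ hz₀1 hz with e | e | e | e <;> rw [e]
    exacts [G₀.one_mem, hz0, hz1, hz2]
  have hξξ : ∀ x ∈ G₀, ξ x ∈ G₀ → ξ (ξ x) ∈ G₀ := by
    intro x hx hx1
    have e : ξ (ξ x) = (ξ x)⁻¹ * x⁻¹ * (x * ξ x * ξ (ξ x)) := by group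
    rw [e]
    exact G₀.mul_mem (G₀.mul_mem (G₀.inv_mem hx1) (G₀.inv_mem hx)) (hZ (h.norm_mem x))
  have hinv : ∀ x ∈ G₀, ξ x ∈ G₀ := by
    have hle : G₀ ≤ G₀.comap ξ.toMonoidHom := by
      rw [hG₀, Subgroup.closure_le]
      intro x hx
      simp only [Set.mem_insert_iff, Set.mem_singleton_iff] at hx
      show ξ x ∈ G₀
      rcases hx with rfl | rfl | rfl | rfl
      · exact hu1
      · exact hξξ _ hu0 hu1
      · exact hv1
      · exact hξξ _ hv0 hv1
    exact fun x hx => hle hx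
  have hcard := h.card_inv G₀ hZ hinv hz₀ hz₀1
  -- at least five elements of G₀ square to z₀
  let f : Subgroup.center G → {x : G // x ∈ G₀ ∧ x * x = z₀} := fun d =>
    ⟨u * d.1, G₀.mul_mem hu0 (hZ d.2), by
      have hc : d.1 * u = u * d.1 := (Subgroup.mem_center_iff.1 d.2 u).symm
      calc u * d.1 * (u * d.1) = u * (d.1 * u) * d.1 := by group
        _ = u * (u * d.1) * d.1 := by rw [hc]
        _ = u * u * (d.1 * d.1) := by group
        _ = z₀ := by rw [hu, h.center_sq d.2, mul_one]⟩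
  have hf : Function.Injective f := by
    intro d d' hdd
    have : u * d.1 = u * d'.1 := congrArg Subtype.val hdd
    exact Subtype.ext (mul_left_cancel this)
  have h4 : 4 ≤ Nat.card {x : G // x ∈ G₀ ∧ x * x = z₀} := by
    rw [← h.card_center]
    exact Nat.card_le_card_of_injective f hf
  have h5 : Nat.card {x : G // x ∈ G₀ ∧ x * x = z₀} ≠ 4 := by
    intro e
    have hbij := hf.bijective_of_nat_card_le (by rw [e, h.card_center])
    obtain ⟨d, hd⟩ := hbij.2 ⟨v, hv0, hv⟩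
    have : u * d.1 = v := congrArg Subtype.val hd
    apply huv
    rw [← this]
    simpa using d.2
  have hdvd : Nat.card G₀ ∣ 64 := by
    rw [← h.card]
    exact Subgroup.card_subgroup_dvd_card G₀
  have h64 : (64 : ℕ) = 2 ^ 6 := by norm_num
  rw [h64] at hdvd
  obtain ⟨j, hj6, hj⟩ := (Nat.dvd_prime_pow Nat.prime_two).1 hdvd
  have hC64 : Nat.card G₀ = 64 := by
    rw [hj] at hcard ⊢
    interval_cases j <;> omega
  exact Subgroup.eq_top_of_card_eq G₀ (by rw [hC64, h.card])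

theorem nf_of_gamma {u v z₀ : G} (hz₀ : z₀ ∈ Subgroup.center G) (hz₀1 : z₀ ≠ 1)
    (hu : u * u = z₀) (hv : v * v = z₀) (huv : u⁻¹ * v ∉ Subgroup.center G)
    (hγ : kap u v = ξ z₀) : NF G u (ξ u) v (ξ v) z₀ (ξ z₀) where
  card := h.card
  z₀_mem := hz₀
  z₁_mem := xi_center ξ hz₀
  z₀_sq := h.center_sq hz₀
  z₁_sq := h.center_sq (xi_center ξ hz₀)
  u_sq := hu
  v_sq := hv
  u'_sq := by rw [← map_mul, hu]
  v'_sq := by rw [← map_mul, hv]
  uu' := h.comm_xi u
  vv' := h.comm_xi v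
  uv := by rw [mul_eq_kap u v, hγ]
  u'v' := by rw [mul_eq_kap (ξ u) (ξ v), kap_xi, hγ, h.mul_xi_center hz₀]
  uv' := by rw [mul_eq_kap u (ξ v), h.kap_cross', hγ, h.xi3_center hz₀]
  u'v := by rw [mul_eq_kap (ξ u) v, ← h.kap_cross, h.kap_cross', hγ, h.xi3_center hz₀]
  gen := h.gen_of_not_mem hz₀ hz₀1 hu hv huv

/-- `ξ²` is as good as `ξ` -/
theorem sq : H64 G (ξ * ξ) where
  card := h.card
  card_center := h.card_center
  sq_mem := h.sq_mem
  comm_mem := h.comm_mem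
  sq_eq_one := h.sq_eq_one
  fpf := by
    intro z hz e
    by_contra hz1
    exact h.xi_xi_ne_self hz hz1 e
  three := by
    obtain ⟨k, hk⟩ := h.three
    exact ⟨k, by rw [(Commute.refl ξ).mul_pow, hk, one_mul]⟩

/-- generators in normal form exist -/
theorem exists_nf : ∃ u u' v v' z₀ z₁ : G, NF G u u' v v' z₀ z₁ := by
  haveI := h.finite
  obtain ⟨z₀, hz₀, hz₀1⟩ := h.exists_center_ne_one
  have h20 := h.card_sq_fibre hz₀ hz₀1
  haveI : Nonempty {x : G // x * x = z₀} := by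
    apply (Nat.card_pos_iff.1 _).1
    rw [h20]; norm_num
  obtain ⟨⟨u, hu⟩⟩ := ‹Nonempty {x : G // x * x = z₀}›
  obtain ⟨v, hv, huv⟩ : ∃ v : G, v * v = z₀ ∧ u⁻¹ * v ∉ Subgroup.center G := by
    by_contra hcon
    push Not at hcon
    let f : {x : G // x * x = z₀} → Subgroup.center G := fun x => ⟨u⁻¹ * x.1, hcon x.1 x.2⟩
    have hf : Function.Injective f := by
      intro x y hxy
      have : u⁻¹ * x.1 = u⁻¹ * y.1 := congrArg Subtype.val hxy
      exact Subtype.ext (mul_left_cancel this)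
    have := Nat.card_le_card_of_injective f hf
    rw [h20, h.card_center] at this
    omega
  have hγmem := h.kap_mem u v
  rcases h.center_cases hz₀ hz₀1 hγmem with e | e | e | e
  · -- γ = 1
    exfalso
    apply huv
    have h1 : u * v * (u * v) = 1 := by
      rw [h.sq_mul, hu, hv, h.kap_symm, e, mul_one, h.center_sq hz₀]
    have h2 := h.sq_eq_one _ h1
    have h3 : u⁻¹ * v = (u * u)⁻¹ * (u * v) := by group
    rw [h3, hu]
    exact Subgroup.mul_mem _ (Subgroup.inv_mem _ hz₀) h2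
  · -- γ = z₀
    exfalso
    have h1 : u * ξ v * (u * ξ v) = 1 := by
      rw [h.sq_mul, hu, ← map_mul, hv, h.kap_symm, h.kap_cross', e, h.mul_xi_center hz₀]
      exact h.center_sq (xi_center ξ (xi_center ξ hz₀))
    have h2 := h.sq_eq_one _ h1
    -- ξ v = u⁻¹ c
    have h3 : ξ v * ξ v = z₀ := by
      have hc := Subgroup.mem_center_iff.1 h2 u⁻¹
      calc ξ v * ξ v = u⁻¹ * (u * ξ v) * (u⁻¹ * (u * ξ v)) := by group
        _ = u⁻¹ * (u * ξ v * u⁻¹) * (u * ξ v) := by group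
        _ = u⁻¹ * (u⁻¹ * (u * ξ v)) * (u * ξ v) := by rw [← hc]
        _ = (u * u)⁻¹ * (u * ξ v * (u * ξ v)) := by group
        _ = z₀ := by rw [h1, hu, mul_one, h.center_inv hz₀]
    rw [← map_mul, hv] at h3
    exact h.xi_ne_self hz₀ hz₀1 h3
  · exact ⟨u, ξ u, v, ξ v, z₀, ξ z₀, h.nf_of_gamma hz₀ hz₀1 hu hv huv e⟩
  · exact ⟨u, (ξ * ξ) u, v, (ξ * ξ) v, z₀, (ξ * ξ) z₀, h.sq.nf_of_gamma hz₀ hz₀1 hu hv huv e⟩

end H64

end Cfsg.Agent.Lib.Helper5.R2
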