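import Mathlib
import Cfsg.Agent.Lib.Helper5.R2.H64C

/-!
S1237, Step 5 (author: helper5): two groups in the normal form `NF` are isomorphic (the graph of
the correspondence of generators has at most 64 elements), hence any two groups with `H64`.
-/

set_option autoImplicit false

namespace Cfsg.Agent.Lib.Helper5.R2

section count

variable {X : Type*} [Group X]

/-- a relation `x y = y x c` computes the commutator -/
theorem comm_of_rel (x y c : X) (e : x * y = y * x * c) : x⁻¹ * y⁻¹ * x * y = c := by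
  calc x⁻¹ * y⁻¹ * x * y = x⁻¹ * y⁻¹ * (x * y) := by group
    _ = x⁻¹ * y⁻¹ * (y * x * c) := by rw [e]
    _ = c := by group

/-- adjoining an element `q` that normalises `H` and has `q² ∈ H` at most doubles the order -/
theorem card_sup_zpowers_le (H : Subgroup X) [Finite H] (q : X)
    (hq : ∀ x ∈ H, q⁻¹ * x * q ∈ H) (hq2 : q * q ∈ H) :
    Finite ↥(H ⊔ Subgroup.zpowers q) ∧
      Nat.card ↥(H ⊔ Subgroup.zpowers q) ≤ 2 * Nat.card H := by
  let K : Subgroup X :=
    { carrier := {x | x ∈ H ∨ x * q ∈ H}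
      one_mem' := Or.inl H.one_mem
      mul_mem' := by
        rintro a b (ha | ha) (hb | hb)
        · exact Or.inl (H.mul_mem ha hb)
        · right
          show a * b * q ∈ H
          rw [mul_assoc]
          exact H.mul_mem ha hb
        · right
          show a * b * q ∈ H
          have : a * b * q = a * q * (q⁻¹ * b * q) := by group
          rw [this]
          exact H.mul_mem ha (hq b hb)
        · left
          show a * b ∈ H
          have : a * b = a * q * (q⁻¹ * (b * q) * q) * (q * q)⁻¹ := by group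
          rw [this]
          exact H.mul_mem (H.mul_mem ha (hq _ hb)) (H.inv_mem hq2)
      inv_mem' := by
        rintro a (ha | ha)
        · exact Or.inl (H.inv_mem ha)
        · right
          show a⁻¹ * q ∈ H
          have : a⁻¹ * q = q * q * (q⁻¹ * (a * q)⁻¹ * q) := by group
          rw [this]
          exact H.mul_mem hq2 (hq _ (H.inv_mem ha)) }
  have hle : H ⊔ Subgroup.zpowers q ≤ K := by
    apply sup_le
    · intro x hx
      exact Or.inl hx
    · rw [Subgroup.zpowers_le]
      exact Or.inr hq2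
  have hsub : ((H ⊔ Subgroup.zpowers q : Subgroup X) : Set X) ⊆
      (H : Set X) ∪ (fun x => x * q⁻¹) '' (H : Set X) := by
    intro x hx
    rcases hle hx with h1 | h1
    · exact Or.inl h1
    · exact Or.inr ⟨x * q, h1, by group⟩
  have hHfin : (H : Set X).Finite := Set.toFinite _
  have hfin : ((H : Set X) ∪ (fun x => x * q⁻¹) '' (H : Set X)).Finite :=
    hHfin.union (hHfin.image _)
  have hfin' : ((H ⊔ Subgroup.zpowers q : Subgroup X) : Set X).Finite := hfin.subset hsub
  refine ⟨hfin'.to_subtype, ?_⟩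
  have e1 : Nat.card ↥(H ⊔ Subgroup.zpowers q) =
      ((H ⊔ Subgroup.zpowers q : Subgroup X) : Set X).ncard := Nat.card_coe_set_eq _
  have e2 : Nat.card H = (H : Set X).ncard := Nat.card_coe_set_eq _
  rw [e1, e2]
  calc ((H ⊔ Subgroup.zpowers q : Subgroup X) : Set X).ncard
      ≤ ((H : Set X) ∪ (fun x => x * q⁻¹) '' (H : Set X)).ncard := Set.ncard_le_ncard hsub hfin
    _ ≤ (H : Set X).ncard + ((fun x => x * q⁻¹) '' (H : Set X)).ncard := Set.ncard_union_le _ _
    _ ≤ (H : Set X).ncard + (H : Set X).ncard :=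
        Nat.add_le_add_left (Set.ncard_image_le hHfin) _
    _ = 2 * (H : Set X).ncard := by ring

/-- a central subgroup `D` and a list of elements whose squares and mutual commutators lie in `D`
generate, together with `D`, at most `2 ^ length * |D|` elements -/
theorem card_closure_list_le (D : Subgroup X) [Finite D] (hD : D ≤ Subgroup.center X) :
    ∀ l : List X, (∀ x ∈ l, x * x ∈ D) →
      l.Pairwise (fun q y => q⁻¹ * y⁻¹ * q * y ∈ D) →
      Finite ↥(D ⊔ Subgroup.closure {x | x ∈ l}) ∧
        Nat.card ↥(D ⊔ Subgroup.closure {x | x ∈ l}) ≤ 2 ^ l.length * Nat.card D := by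
  intro l
  induction l with
  | nil =>
    intro _ _
    have : D ⊔ Subgroup.closure {x : X | x ∈ ([] : List X)} = D := by
      have : {x : X | x ∈ ([] : List X)} = ∅ := by ext x; simp
      rw [this, Subgroup.closure_empty, sup_bot_eq]
    rw [this]
    exact ⟨inferInstance, by simp⟩
  | cons q l ih =>
    intro hsq hpair
    rw [List.pairwise_cons] at hpair
    obtain ⟨hfinH, hcardH⟩ := ih (fun x hx => hsq x (List.mem_cons_of_mem _ hx)) hpair.2
    set H : Subgroup X := D ⊔ Subgroup.closure {x | x ∈ l} with hH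
    have hDH : D ≤ H := le_sup_left
    have hlH : ∀ y ∈ l, y ∈ H := fun y hy =>
      (le_sup_right : Subgroup.closure {x | x ∈ l} ≤ H) (Subgroup.subset_closure hy)
    have heq : D ⊔ Subgroup.closure {x | x ∈ q :: l} = H ⊔ Subgroup.zpowers q := by
      have : {x : X | x ∈ q :: l} = {x | x ∈ l} ∪ {q} := by
        ext x
        simp [or_comm]
      rw [this, Subgroup.closure_union, ← sup_assoc, Subgroup.zpowers_eq_closure]
    have hnorm : ∀ x ∈ H, q⁻¹ * x * q ∈ H := by
      have hle : H ≤ H.comap (MulAut.conj q⁻¹).toMonoidHom := by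
        rw [hH]
        apply sup_le
        · intro d hd
          show (MulAut.conj q⁻¹) d ∈ H
          rw [MulAut.conj_apply, inv_inv]
          have hc := Subgroup.mem_center_iff.1 (hD hd) q⁻¹
          rw [hc, mul_assoc, inv_mul_cancel, mul_one]
          exact hDH hd
        · rw [Subgroup.closure_le]
          intro y hy
          show (MulAut.conj q⁻¹) y ∈ H
          rw [MulAut.conj_apply, inv_inv]
          have : q⁻¹ * y * q = y * (q⁻¹ * y⁻¹ * q * y)⁻¹ := by group
          rw [this]
          exact H.mul_mem (hlH y hy) (H.inv_mem (hDH (hpair.1 y hy)))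
      intro x hx
      have := hle hx
      have h2 : (MulAut.conj q⁻¹) x ∈ H := this
      rw [MulAut.conj_apply, inv_inv] at h2
      exact h2
    haveI := hfinH
    obtain ⟨hfin2, hcard2⟩ := card_sup_zpowers_le H q hnorm (hDH (hsq q List.mem_cons_self))
    rw [heq]
    refine ⟨hfin2, hcard2.trans ?_⟩
    rw [List.length_cons, pow_succ]
    calc 2 * Nat.card H ≤ 2 * (2 ^ l.length * Nat.card D) := Nat.mul_le_mul_left _ hcardH
      _ = 2 ^ l.length * 2 * Nat.card D := by ring

end count

/-- two groups in normal form are isomorphic -/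
theorem NF.iso {G G' : Type*} [Group G] [Group G'] {u u' v v' z₀ z₁ : G}
    {a a' b b' w₀ w₁ : G'} (h : NF G u u' v v' z₀ z₁) (h' : NF G' a a' b b' w₀ w₁) :
    Nonempty (G ≃* G') := by
  haveI : Finite G := Nat.finite_of_card_ne_zero (by rw [h.card]; norm_num)
  haveI : Finite G' := Nat.finite_of_card_ne_zero (by rw [h'.card]; norm_num)
  -- the central subgroup D
  have hd₀c : ((z₀, w₀) : G × G') ∈ Subgroup.center (G × G') := by
    rw [Subgroup.mem_center_iff]
    rintro ⟨g, g'⟩
    exact Prod.ext (Subgroup.mem_center_iff.1 h.z₀_mem g) (Subgroup.mem_center_iff.1 h'.z₀_mem g')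
  have hd₁c : ((z₁, w₁) : G × G') ∈ Subgroup.center (G × G') := by
    rw [Subgroup.mem_center_iff]
    rintro ⟨g, g'⟩
    exact Prod.ext (Subgroup.mem_center_iff.1 h.z₁_mem g) (Subgroup.mem_center_iff.1 h'.z₁_mem g')
  obtain ⟨hDfin, hDcard⟩ := card_closure_list_le (⊥ : Subgroup (G × G')) bot_le
    [((z₀, w₀) : G × G'), (z₁, w₁)]
    (by
      intro x hx
      simp only [List.mem_cons, List.not_mem_nil, or_false] at hx
      rw [Subgroup.mem_bot]
      rcases hx with rfl | rfl
      · exact Prod.ext h.z₀_sq h'.z₀_sq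
      · exact Prod.ext h.z₁_sq h'.z₁_sq)
    (by
      simp only [List.pairwise_cons, List.mem_cons, List.not_mem_nil, or_false, forall_eq,
        IsEmpty.forall_iff, implies_true, List.Pairwise.nil, and_true]
      rw [Subgroup.mem_bot]
      have hc := Subgroup.mem_center_iff.1 hd₁c ((z₀, w₀) : G × G')
      calc ((z₀, w₀) : G × G')⁻¹ * (z₁, w₁)⁻¹ * (z₀, w₀) * (z₁, w₁)
          = ((z₀, w₀) : G × G')⁻¹ * (z₁, w₁)⁻¹ * ((z₀, w₀) * (z₁, w₁)) := by group
        _ = ((z₀, w₀) : G × G')⁻¹ * (z₁, w₁)⁻¹ * ((z₁, w₁) * (z₀, w₀)) := by rw [hc]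
        _ = 1 := by group)
  set D : Subgroup (G × G') := ⊥ ⊔ Subgroup.closure {x | x ∈ [((z₀, w₀) : G × G'), (z₁, w₁)]}
    with hDdef
  have hDcard4 : Nat.card D ≤ 4 := by
    have : Nat.card (⊥ : Subgroup (G × G')) = 1 := Subgroup.card_bot
    rw [this] at hDcard
    simpa using hDcard
  have hd₀D : ((z₀, w₀) : G × G') ∈ D :=
    (le_sup_right : _ ≤ D) (Subgroup.subset_closure (by simp))
  have hd₁D : ((z₁, w₁) : G × G') ∈ D :=
    (le_sup_right : _ ≤ D) (Subgroup.subset_closure (by simp))
  have hDc : D ≤ Subgroup.center (G × G') := by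
    rw [hDdef]
    apply sup_le bot_le
    rw [Subgroup.closure_le]
    intro x hx
    simp only [List.mem_cons, List.not_mem_nil, or_false, Set.mem_setOf_eq] at hx
    rcases hx with rfl | rfl
    · exact hd₀c
    · exact hd₁c
  haveI := hDfin
  obtain ⟨hPfin, hPcard⟩ := card_closure_list_le D hDc
    [((u, a) : G × G'), (u', a'), (v, b), (v', b')]
    (by
      intro x hx
      simp only [List.mem_cons, List.not_mem_nil, or_false] at hx
      rcases hx with rfl | rfl | rfl | rfl
      · have : ((u, a) : G × G') * (u, a) = (z₀, w₀) := Prod.ext h.u_sq h'.u_sq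
        rw [this]; exact hd₀D
      · have : ((u', a') : G × G') * (u', a') = (z₁, w₁) := Prod.ext h.u'_sq h'.u'_sq
        rw [this]; exact hd₁D
      · have : ((v, b) : G × G') * (v, b) = (z₀, w₀) := Prod.ext h.v_sq h'.v_sq
        rw [this]; exact hd₀D
      · have : ((v', b') : G × G') * (v', b') = (z₁, w₁) := Prod.ext h.v'_sq h'.v'_sq
        rw [this]; exact hd₁D)
    (by
      simp only [List.pairwise_cons, List.mem_cons, List.not_mem_nil, or_false, forall_eq_or_imp,
        forall_eq, IsEmpty.forall_iff, implies_true, List.Pairwise.nil, and_true]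
      refine ⟨⟨?_, ?_, ?_⟩, ⟨?_, ?_⟩, ?_⟩
      · have : ((u, a) : G × G')⁻¹ * (u', a')⁻¹ * (u, a) * (u', a') = 1 :=
          Prod.ext (comm_of_rel u u' 1 (by rw [mul_one]; exact h.uu'))
            (comm_of_rel a a' 1 (by rw [mul_one]; exact h'.uu'))
        rw [this]; exact D.one_mem
      · have : ((u, a) : G × G')⁻¹ * (v, b)⁻¹ * (u, a) * (v, b) = (z₁, w₁) :=
          Prod.ext (comm_of_rel u v z₁ h.uv) (comm_of_rel a b w₁ h'.uv)
        rw [this]; exact hd₁D
      · have : ((u, a) : G × G')⁻¹ * (v', b')⁻¹ * (u, a) * (v', b') = (z₀, w₀) :=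
          Prod.ext (comm_of_rel u v' z₀ h.uv') (comm_of_rel a b' w₀ h'.uv')
        rw [this]; exact hd₀D
      · have : ((u', a') : G × G')⁻¹ * (v, b)⁻¹ * (u', a') * (v, b) = (z₀, w₀) :=
          Prod.ext (comm_of_rel u' v z₀ h.u'v) (comm_of_rel a' b w₀ h'.u'v)
        rw [this]; exact hd₀D
      · have : ((u', a') : G × G')⁻¹ * (v', b')⁻¹ * (u', a') * (v', b')
            = (z₀, w₀) * (z₁, w₁) :=
          Prod.ext (comm_of_rel u' v' (z₀ * z₁) h.u'v') (comm_of_rel a' b' (w₀ * w₁) h'.u'v')
        rw [this]; exact D.mul_mem hd₀D hd₁D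
      · have : ((v, b) : G × G')⁻¹ * (v', b')⁻¹ * (v, b) * (v', b') = 1 :=
          Prod.ext (comm_of_rel v v' 1 (by rw [mul_one]; exact h.vv'))
            (comm_of_rel b b' 1 (by rw [mul_one]; exact h'.vv'))
        rw [this]; exact D.one_mem)
  set S : Set (G × G') := {((u, a) : G × G'), (u', a'), (v, b), (v', b')} with hS
  have hSl : {x | x ∈ [((u, a) : G × G'), (u', a'), (v, b), (v', b')]} = S := by
    ext x
    simp [hS]
  rw [hSl] at hPfin hPcard
  set P : Subgroup (G × G') := Subgroup.closure S with hP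
  haveI := hPfin
  have hPle : Nat.card P ≤ 64 := by
    have h1 : Nat.card P ≤ Nat.card ↥(D ⊔ P) := Subgroup.card_le_of_le le_sup_right
    have h2 : 2 ^ [((u, a) : G × G'), (u', a'), (v, b), (v', b')].length * Nat.card D ≤ 64 := by
      simp only [List.length_cons, List.length_nil]
      omega
    exact h1.trans (hPcard.trans h2)
  haveI : Finite P := Finite.of_injective (fun x : P => (⟨x.1, (le_sup_right : P ≤ D ⊔ P) x.2⟩ :
    ↥(D ⊔ P))) (fun x y hxy => Subtype.ext (congrArg (fun t : ↥(D ⊔ P) => t.1) hxy))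
  -- the projections
  let π₁ : P →* G := (MonoidHom.fst G G').comp P.subtype
  let π₂ : P →* G' := (MonoidHom.snd G G').comp P.subtype
  have hπ₁ : Function.Surjective π₁ := by
    rw [← MonoidHom.range_eq_top, MonoidHom.range_comp, Subgroup.range_subtype, hP,
      MonoidHom.map_closure, ← h.gen]
    congr 1
    simp [hS, Set.image_insert_eq]
  have hπ₂ : Function.Surjective π₂ := by
    rw [← MonoidHom.range_eq_top, MonoidHom.range_comp, Subgroup.range_subtype, hP,
      MonoidHom.map_closure, ← h'.gen]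
    congr 1
    simp [hS, Set.image_insert_eq]
  have hb₁ : Function.Bijective π₁ := hπ₁.bijective_of_nat_card_le (by rw [h.card]; exact hPle)
  have hb₂ : Function.Bijective π₂ := hπ₂.bijective_of_nat_card_le (by rw [h'.card]; exact hPle)
  exact ⟨(MulEquiv.ofBijective π₁ hb₁).symm.trans (MulEquiv.ofBijective π₂ hb₂)⟩

/-- uniqueness of the group of order 64 -/
theorem H64.iso {G G' : Type*} [Group G] [Group G'] {ξ : MulAut G} {ξ' : MulAut G'}
    (h : H64 G ξ) (h' : H64 G' ξ') : Nonempty (G ≃* G') := by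
  obtain ⟨u, u', v, v', z₀, z₁, hn⟩ := h.exists_nf
  obtain ⟨a, a', b, b', w₀, w₁, hn'⟩ := h'.exists_nf
  exact hn.iso hn'

end Cfsg.Agent.Lib.Helper5.R2
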