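import Mathlib
import Cfsg.Agent.Lib.Helper5.R2.H64D
import Cfsg.Agent.Lib.Helper5.U3Even.Sylow

/-!
S1237, Step 5 (author: helper5): the Sylow 2-subgroup of `PSU₃(4)` satisfies `H64`, hence every
group with `H64` is isomorphic to it.
-/

set_option autoImplicit false

namespace Cfsg.Agent.Lib.Helper5.R2

open Cfsg Cfsg.Agent.Lib.Helper5 Cfsg.Agent.Lib.Helper5.U3Even

/-- a group coordinatised as the Sylow 2-subgroup of `SU₃(4)` satisfies `H64` -/
theorem h64_coords {F : Type*} [Field F] [Fintype F] (hF : Fintype.card F = 4 ^ 2)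
    {X : Type*} [Group X] [Finite X] (c : Coords F 4 X) : ∃ ξ : MulAut X, H64 X ξ := by
  classical
  have hq : Even 4 := ⟨2, rfl⟩
  have hfrob : ∀ z : F, (z ^ 4) ^ 4 = z := fun z => Herm.frob_frob hF z
  haveI : Fact (Nat.Prime 3) := ⟨by norm_num⟩
  have hcardU : Fintype.card Fˣ = 15 := by rw [Fintype.card_units, hF]; norm_num
  obtain ⟨l, hl⟩ := exists_prime_orderOf_dvd_card (G := Fˣ) 3 (by rw [hcardU]; norm_num)
  have hl3 : l ^ 3 = 1 := by rw [← hl]; exact pow_orderOf_eq_one l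
  have hl1 : l ≠ 1 := by
    rintro rfl
    rw [orderOf_one] at hl
    omega
  have hl3' : (l : F) ^ 3 = 1 := by
    have := congrArg Units.val hl3
    simpa using this
  have hl1' : (l : F) ≠ 1 := fun e => hl1 (Units.ext e)
  have hdbl : ∀ t : F, t + t = 0 := dbl hq hF
  have hainv : ∀ x : X, c.a x⁻¹ + c.a x = 0 := by
    intro x
    rw [← c.ha, inv_mul_cancel, c.a_one]
  refine ⟨c.phiAut hfrob l, ?_⟩
  refine ⟨?_, ?_, ?_, ?_, ?_, ?_, ?_⟩
  · rw [c.card_eq hq hF]; norm_num
  · exact c.card_center hq hF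
  · intro x
    rw [c.mem_center_iff hq hF, c.ha]
    exact hdbl _
  · intro x y
    rw [c.mem_center_iff hq hF, c.ha, c.ha, c.ha]
    linear_combination hainv x + hainv y
  · intro x hx
    rw [c.mem_center_iff hq hF]
    exact (c.sq_eq_one_iff hq hF x).1 hx
  · intro z hz hfix
    rw [c.mem_center_iff hq hF] at hz
    have h1 := congrArg c.b hfix
    rw [Coords.phiAut_apply, c.phi_b] at h1
    -- l^5 b = b, l^5 = l^2
    have h5 : (l : F) * (l : F) ^ 4 = (l : F) ^ 2 := by
      calc (l : F) * (l : F) ^ 4 = (l : F) ^ 3 * (l : F) ^ 2 := by ring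
        _ = (l : F) ^ 2 := by rw [hl3', one_mul]
    rw [h5] at h1
    have h6 : ((l : F) ^ 2 - 1) * c.b z = 0 := by linear_combination h1
    have h7 : (l : F) ^ 2 - 1 ≠ 0 := by
      intro e
      apply hl1'
      have e2 : (l : F) ^ 2 = 1 := by linear_combination e
      calc (l : F) = (l : F) * (l : F) ^ 2 := by rw [e2, mul_one]
        _ = (l : F) ^ 3 := by ring
        _ = 1 := hl3'
    rcases mul_eq_zero.1 h6 with e | e
    · exact absurd e h7
    · exact c.eq_one z hz e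
  · refine ⟨1, ?_⟩
    have : c.phiAut hfrob l = c.phiHom hfrob l := rfl
    rw [this, pow_one, ← map_pow, hl3, map_one]

/-- every group with `H64` is the Sylow 2-subgroup of `PSU₃(4)` -/
theorem H64.sylow_iso {G : Type*} [Group G] {ξ : MulAut G} (h : H64 G ξ)
    {F : Type*} [Field F] [Fintype F] (hF : Fintype.card F = 16)
    (P : Sylow 2 (Cfsg.PSU 3 F 4)) : Nonempty (G ≃* (P : Subgroup (Cfsg.PSU 3 F 4))) := by
  have hq : Even 4 := ⟨2, rfl⟩
  have hF' : Fintype.card F = 4 ^ 2 := by rw [hF]; norm_num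
  obtain ⟨e⟩ := sylow_equiv (n := 2) (by norm_num) hF' hq P
  haveI : Finite (U hq hF') := Nat.finite_of_card_ne_zero (by rw [card_U hq hF']; norm_num)
  obtain ⟨ξ', h'⟩ := h64_coords hF' (coordsOfEquiv hq hF' (MulEquiv.refl (U hq hF')))
  obtain ⟨e'⟩ := h.iso h'
  exact ⟨e'.trans e.symm⟩

end Cfsg.Agent.Lib.Helper5.R2
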